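import Groth.Agent.FittStratum.Main
import Groth.Agent.FittLib.Basic
import Groth.Agent.QCohLib.FPSections
import Groth.Agent.S4613

/-!
The stratum of rank `r` of a module of finite presentation is of finite presentation.
-/

set_option autoImplicit false
set_option linter.style.haveILetI false
universe u

open CategoryTheory CategoryTheory.Limits AlgebraicGeometry TopologicalSpace

noncomputable section

namespace Groth.Agent.FittStratum

theorem fg_ideal {R : Type u} [CommRing R] {M : Type u} [AddCommGroup M] [Module R M]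
    [Module.FinitePresentation R M] (k : ℕ) : (Fitt.ideal R M k).FG := by
  classical
  obtain ⟨n, x, hx⟩ := Module.Finite.exists_fin (R := R) (M := M)
  have hsurj : Function.Surjective (Fintype.linearCombination R x) := by
    rw [← LinearMap.range_eq_top, Fintype.range_linearCombination, hx]
  obtain ⟨G, hG⟩ := Module.FinitePresentation.fg_ker _ hsurj
  rw [FittLib.ideal_eq_D x hx, FittLib.D_eq_span_gen x (G : Set (Fin n → R)) hG k]
  let rows : Finset (Fin n → R) := G ∪ Finset.univ.image fun j => Pi.single j 1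
  refine Submodule.fg_span ((Set.Finite.pi' (fun _ : Fin n => rows.finite_toSet)).image
    (fun a => (Matrix.of a).det) |>.subset ?_)
  rintro _ ⟨a, T, -, h1, h2, rfl⟩
  refine ⟨a, fun i => ?_, rfl⟩
  by_cases hi : i ∈ T
  · exact Finset.mem_union_left _ (h1 i hi)
  · obtain ⟨j, hj⟩ := h2 i hi
    exact Finset.mem_union_right _ (Finset.mem_image.2 ⟨j, Finset.mem_univ j, hj.symm⟩)

theorem lfp_subschemeι {X : Scheme.{u}} (I : X.IdealSheafData) (hI : ∀ U, (I.ideal U).FG) :
    LocallyOfFinitePresentation I.subschemeι :=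
  (S4613.result I.subschemeι).mpr fun U => by
    rw [Scheme.IdealSheafData.ker_subschemeι_app]
    exact hI U

variable {X : Scheme.{u}} (F : X.Modules) [Coh.IsQCoh F] (hF : CohB1.IsFP F)

include hF in
theorem fg_sheafIdeal (k : ℕ) (U : X.affineOpens) : ((Fitt.sheafIdeal F k).ideal U).FG := by
  rw [FittSheafLib.sheafIdeal_ideal F (ExactConstrLib.isFT_of_isFP hF) k U]
  haveI := QCohLib.finitePresentation_sections F hF U.2
  exact fg_ideal k

theorem quasiCompact_ι_compl (I : X.IdealSheafData) (hI : ∀ U, (I.ideal U).FG) :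
    QuasiCompact (Scheme.Opens.ι (⟨_, I.support.isClosed.isOpen_compl⟩ : X.Opens)) := by
  classical
  let U : X.Opens := ⟨_, I.support.isClosed.isOpen_compl⟩
  show QuasiCompact U.ι
  rw [quasiCompact_iff_forall_isAffineOpen]
  intro W hW
  rw [U.ι.isOpenEmbedding.isEmbedding.isCompact_iff]
  obtain ⟨G, hG⟩ := hI ⟨W, hW⟩
  have hc : IsCompact (⋃ g ∈ G, (X.basicOpen g : Set X)) :=
    G.isCompact_biUnion fun g _ => (hW.basicOpen g).isCompact
  convert hc using 1
  have h1 : (I.support : Set X) ∩ W = X.zeroLocus (G : Set Γ(X, W)) ∩ W := by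
    refine (I.coe_support_inter ⟨W, hW⟩).trans ?_
    rw [← hG, Scheme.zeroLocus_span]
  ext x
  simp only [Set.mem_image, Set.mem_iUnion, SetLike.mem_coe, exists_prop]
  constructor
  · rintro ⟨⟨y, hy⟩, hyW, rfl⟩
    by_contra hne
    push Not at hne
    refine hy ((h1.ge ⟨(X.mem_zeroLocus_iff _ _).2 fun g hg => hne g hg, hyW⟩).1)
  · rintro ⟨g, hg, hxg⟩
    have hxW : x ∈ W := X.basicOpen_le g hxg
    exact ⟨⟨x, fun hx => (X.mem_zeroLocus_iff _ _).1 (h1.le ⟨hx, hxW⟩).1 g hg hxg⟩, hxW, rfl⟩

include hF in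
/-- The stratum of rank `r`, which is an immersion of finite presentation. -/
theorem exists_immersion_fp (r : ℕ) :
    ∃ (Z : Scheme.{u}) (i : Z ⟶ X), IsImmersion i ∧ LocallyOfFinitePresentation i ∧ QuasiCompact i ∧
      ∀ (T : Scheme.{u}) (f : T ⟶ X),
      (∃ g : T ⟶ Z, g ≫ i = f) ↔ FlatMod.IsFinLocFreeOfRank r ((Scheme.Modules.pullback f).obj F) := by
  classical
  have hft : CohB1.IsFT F := ExactConstrLib.isFT_of_isFP hF
  let J : X.IdealSheafData := if r = 0 then ⊥ else Fitt.sheafIdeal F (r - 1)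
  let U : X.Opens := ⟨_, (Fitt.sheafIdeal F r).support.isClosed.isOpen_compl⟩
  haveI : LocallyOfFinitePresentation J.subschemeι := by
    refine lfp_subschemeι J fun V => ?_
    by_cases hr : r = 0
    · simp only [J, hr, if_true, Scheme.IdealSheafData.ideal_bot, Pi.bot_apply]
      exact Submodule.fg_bot
    · simp only [J, hr, if_false]
      exact fg_sheafIdeal F hF _ V
  haveI : QuasiCompact U.ι := quasiCompact_ι_compl _ (fg_sheafIdeal F hF r)
  refine ⟨pullback J.subschemeι U.ι, pullback.fst J.subschemeι U.ι ≫ J.subschemeι, inferInstance, inferInstance,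
    inferInstance, fun T f => ?_⟩
  rw [isFinLocFreeOfRank_iff F hft f r]
  have hJ : (r ≠ 0 → Fitt.sheafIdeal F (r - 1) ≤ f.ker) ↔ J ≤ f.ker := by
    by_cases hr : r = 0
    · simp [J, hr]
    · simp [J, hr]
  rw [hJ]
  constructor
  · rintro ⟨g, rfl⟩
    refine ⟨?_, ?_⟩
    · rintro _ ⟨t, rfl⟩
      rw [pullback.condition]
      simp only [Scheme.Hom.comp_apply]
      exact ((pullback.snd J.subschemeι U.ι) (g t)).2
    · rw [← Category.assoc]
      exact J.ker_subschemeι.symm.le.trans (Scheme.Hom.le_ker_comp _ _)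
  · rintro ⟨h1, h2⟩
    have hr : Set.range f ⊆ Set.range U.ι := by rwa [Scheme.Opens.range_ι]
    refine ⟨pullback.lift (IsClosedImmersion.lift J.subschemeι f (by rwa [Scheme.IdealSheafData.ker_subschemeι]))
      (IsOpenImmersion.lift U.ι f hr) (by rw [IsClosedImmersion.lift_fac, IsOpenImmersion.lift_fac]), ?_⟩
    rw [pullback.lift_fst_assoc, IsClosedImmersion.lift_fac]

end Groth.Agent.FittStratum
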