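import Groth.Agent.FittSheafLib.Basic
import Groth.Agent.ExactConstrLib.LocFree
import Groth.Agent.PullbackMod.FibreRank
import Groth.Agent.PullbackMod.Sections

/-!
The stratum of rank `r` of a quasi-coherent module of finite type.
-/

set_option autoImplicit false
set_option linter.style.haveILetI false
universe u

open CategoryTheory CategoryTheory.Limits AlgebraicGeometry TopologicalSpace
open scoped TensorProduct

noncomputable section

namespace Groth.Agent.FittStratum

variable {X T : Scheme.{u}} (F : X.Modules) [Coh.IsQCoh F] (hF : CohB1.IsFT F) (g : T ⟶ X)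

include hF in
theorem isFT_pullback : CohB1.IsFT ((Scheme.Modules.pullback g).obj F) := by
  haveI := PullbackMod.isQCoh_pullback g F
  have hcov : ∀ t : T, ∃ (W : T.Opens) (V : X.Opens), IsAffineOpen W ∧ IsAffineOpen V ∧ t ∈ W ∧ W ≤ g ⁻¹ᵁ V := fun t => by
    obtain ⟨_, ⟨V : X.Opens, (hV : IsAffineOpen V), rfl⟩, hxV, -⟩ :=
      X.isBasis_affineOpens.exists_subset_of_mem_open (Set.mem_univ (g t)) isOpen_univ
    obtain ⟨_, ⟨W : T.Opens, (hW : IsAffineOpen W), rfl⟩, htW, hWV⟩ :=
      T.isBasis_affineOpens.exists_subset_of_mem_open (a := t) (u := ↑(g ⁻¹ᵁ V)) hxV (g ⁻¹ᵁ V).2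
    exact ⟨W, V, hW, hV, htW, hWV⟩
  choose W V hW hV htW hWV using hcov
  refine QCohLib.isFiniteType_of_finite _ W hW (eq_top_iff.mpr fun t _ => Opens.mem_iSup.mpr ⟨t, htW t⟩) fun t => ?_
  letI : Algebra Γ(X, V t) Γ(T, W t) := (g.appLE (V t) (W t) (hWV t)).hom.toAlgebra
  letI := Module.compHom Γ((Scheme.Modules.pullback g).obj F, W t) (g.appLE (V t) (W t) (hWV t)).hom
  haveI : IsScalarTower Γ(X, V t) Γ(T, W t) Γ((Scheme.Modules.pullback g).obj F, W t) :=
    .of_algebraMap_smul fun _ _ => rfl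
  haveI := QCohLib.finite_sections F hF (hV t)
  exact Module.Finite.equiv (PullbackMod.isBaseChange_pullMapL g F (hV t) (hW t) (hWV t)).equiv

include hF in
theorem freeAt_iff (r : ℕ) (t : T) :
    PullbackMod.FreeAt r ((Scheme.Modules.pullback g).obj F) t ↔
      (Fitt.ideal (X.presheaf.stalk (g t)) (F.presheaf.stalk (g t)) r).map (g.stalkMap t).hom = ⊤ ∧
      (r ≠ 0 → (Fitt.ideal (X.presheaf.stalk (g t)) (F.presheaf.stalk (g t)) (r - 1)).map (g.stalkMap t).hom = ⊥) := by
  let O := X.presheaf.stalk (g t)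
  let O' := T.presheaf.stalk t
  let N' := ((Scheme.Modules.pullback g).obj F).presheaf.stalk t
  letI : Algebra O O' := (g.stalkMap t).hom.toAlgebra
  letI := Module.compHom N' (g.stalkMap t).hom
  haveI : IsScalarTower O O' N' := .of_algebraMap_smul fun _ _ => rfl
  haveI : Module.Finite O (F.presheaf.stalk (g t)) := PullbackMod.finite_stalk_of_isFT hF (g t)
  have hbc := PullbackMod.isBaseChange_pullStalkL g F t
  haveI : Module.Finite O' N' := Module.Finite.equiv hbc.equiv
  unfold PullbackMod.FreeAt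
  rw [ExactConstrLib.nonempty_basis_iff, ← FittSheafLib.fitt_map_of_isBaseChange _ hbc r,
    ← FittSheafLib.fitt_map_of_isBaseChange _ hbc (r - 1)]
  rfl

include hF in
theorem map_stalk_eq_top_iff (k : ℕ) (t : T) :
    (Fitt.ideal (X.presheaf.stalk (g t)) (F.presheaf.stalk (g t)) k).map (g.stalkMap t).hom = ⊤ ↔
      g t ∉ (Fitt.sheafIdeal F k).support := by
  haveI : Module.Finite (X.presheaf.stalk (g t)) (F.presheaf.stalk (g t)) := PullbackMod.finite_stalk_of_isFT hF (g t)
  rw [FittSheafLib.notMem_support_iff F hF k (g t)]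
  refine ⟨fun h => FittLib.exists_span_of_ideal_eq_top ?_, fun ⟨s, hs⟩ => ?_⟩
  · by_contra hne
    refine (IsLocalRing.maximalIdeal.isMaximal (T.presheaf.stalk t)).ne_top (top_le_iff.1 (h ▸ ?_))
    rw [Ideal.map_le_iff_le_comap]
    intro a ha
    exact (map_mem_nonunits_iff (g.stalkMap t).hom a).2 ((IsLocalRing.le_maximalIdeal hne) ha)
  · rw [FittLib.ideal_eq_top s hs le_rfl, Ideal.map_top]

include hF in
theorem le_ker_iff (k : ℕ) :
    Fitt.sheafIdeal F k ≤ g.ker ↔
      ∀ t : T, (Fitt.ideal (X.presheaf.stalk (g t)) (F.presheaf.stalk (g t)) k).map (g.stalkMap t).hom = ⊥ := by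
  have key : ∀ (U : X.Opens) (a : Γ(X, U)) (t : T) (ht : g t ∈ U),
      (g.stalkMap t).hom (X.presheaf.germ U (g t) ht a) = T.presheaf.germ (g ⁻¹ᵁ U) t ht (g.app U a) := fun U a t ht =>
    Scheme.Hom.germ_stalkMap_apply g U t ht a
  constructor
  · intro h t
    obtain ⟨U, hU, ht, -⟩ := exists_isAffineOpen_mem_and_subset (U := (⊤ : X.Opens)) (x := g t) trivial
    rw [← FittSheafLib.stalk_fitt F hF k hU (g t) ht, Ideal.map_map, eq_bot_iff, Ideal.map_le_iff_le_comap,
      ← FittSheafLib.sheafIdeal_ideal F hF k ⟨U, hU⟩]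
    intro a ha
    have h0 : g.app U a = 0 :=
      RingHom.mem_ker.1 ((Scheme.IdealSheafData.ideal_ofIdeals_le _ _) (h ⟨U, hU⟩ ha))
    show (g.stalkMap t).hom (X.presheaf.germ U (g t) ht a) = 0
    rw [key, h0, map_zero]
  · intro h
    refine Scheme.IdealSheafData.le_ofIdeals_iff.2 fun U a ha => ?_
    rw [RingHom.mem_ker]
    refine TopCat.Presheaf.section_ext T.sheaf (g ⁻¹ᵁ U.1) _ _ fun t ht => ?_
    refine Eq.trans ?_ (map_zero (T.presheaf.germ (g ⁻¹ᵁ U.1) t ht).hom).symm
    rw [FittSheafLib.sheafIdeal_ideal F hF k U] at ha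
    have h1 : (g.stalkMap t).hom (X.presheaf.germ U.1 (g t) ht a) ∈
        (Fitt.ideal (X.presheaf.stalk (g t)) (F.presheaf.stalk (g t)) k).map (g.stalkMap t).hom := by
      rw [← FittSheafLib.stalk_fitt F hF k U.2 (g t) ht]
      exact Ideal.mem_map_of_mem _ (Ideal.mem_map_of_mem _ ha)
    rw [h t, Submodule.mem_bot, key] at h1
    exact h1

include hF in
theorem isFinLocFreeOfRank_iff (r : ℕ) :
    FlatMod.IsFinLocFreeOfRank r ((Scheme.Modules.pullback g).obj F) ↔
      Set.range g ⊆ ((Fitt.sheafIdeal F r).support : Set X)ᶜ ∧ (r ≠ 0 → Fitt.sheafIdeal F (r - 1) ≤ g.ker) := by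
  haveI := PullbackMod.isQCoh_pullback g F
  let M := (Scheme.Modules.pullback g).obj F
  have hloc : FlatMod.IsFinLocFreeOfRank r M ↔ ∀ t, PullbackMod.FreeAt r M t := by
    constructor
    · intro h t
      obtain ⟨U, hU, ⟨i⟩⟩ := h t
      exact PullbackMod.freeAt_of_restrict_iso M i hU
    · intro h
      have hft := isFT_pullback F hF g
      have hflf : FlatMod.IsFinLocFree M := PullbackMod.isFinLocFree_of_fibreRank_of_free M hft
        (fun t => Module.Free.of_equiv (h t).some.symm)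
        (by
          have : PullbackMod.fibreRank M = fun _ => r := funext fun t => PullbackMod.fibreRank_eq_of_freeAt M (h t)
          rw [this]
          exact IsLocallyConstant.const r)
      exact (PullbackMod.isFinLocFreeOfRank_iff_freeAt M
        (PullbackMod.isQCoh_and_isFP_of_isFinLocFree M hflf).2 r).2 h
  rw [hloc]
  constructor
  · intro h
    refine ⟨?_, fun hr => (le_ker_iff F hF g _).2 fun t => ((freeAt_iff F hF g r t).1 (h t)).2 hr⟩
    rintro _ ⟨t, rfl⟩
    exact (map_stalk_eq_top_iff F hF g r t).1 ((freeAt_iff F hF g r t).1 (h t)).1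
  · rintro ⟨h1, h2⟩ t
    exact (freeAt_iff F hF g r t).2 ⟨(map_stalk_eq_top_iff F hF g r t).2 (h1 ⟨t, rfl⟩),
      fun hr => (le_ker_iff F hF g _).1 (h2 hr) t⟩

include hF in
theorem exists_immersion (r : ℕ) :
    ∃ (Z : Scheme.{u}) (i : Z ⟶ X), IsImmersion i ∧ ∀ (T : Scheme.{u}) (f : T ⟶ X),
      (∃ g : T ⟶ Z, g ≫ i = f) ↔ FlatMod.IsFinLocFreeOfRank r ((Scheme.Modules.pullback f).obj F) := by
  classical
  let J : X.IdealSheafData := if r = 0 then ⊥ else Fitt.sheafIdeal F (r - 1)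
  let U : X.Opens := ⟨_, (Fitt.sheafIdeal F r).support.isClosed.isOpen_compl⟩
  refine ⟨pullback J.subschemeι U.ι, pullback.fst J.subschemeι U.ι ≫ J.subschemeι, inferInstance, fun T f => ?_⟩
  rw [isFinLocFreeOfRank_iff F hF f r]
  have hJ : (r ≠ 0 → Fitt.sheafIdeal F (r - 1) ≤ f.ker) ↔ J ≤ f.ker := by
    by_cases hr : r = 0
    · simp [J, hr]
    · simp [J, hr]
  rw [hJ]
  constructor
  · rintro ⟨g, rfl⟩
    refine ⟨?_, ?_⟩
    · rintro _ ⟨t, rfl⟩
      rw [pullback.condition]
      simp only [Scheme.Hom.comp_apply]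
      exact ((pullback.snd J.subschemeι U.ι) (g t)).2
    · rw [← Category.assoc]
      exact J.ker_subschemeι.symm.le.trans (Scheme.Hom.le_ker_comp _ _)
  · rintro ⟨h1, h2⟩
    have hr : Set.range f ⊆ Set.range U.ι := by rwa [Scheme.Opens.range_ι]
    refine ⟨pullback.lift (IsClosedImmersion.lift J.subschemeι f (by rwa [Scheme.IdealSheafData.ker_subschemeι]))
      (IsOpenImmersion.lift U.ι f hr) (by rw [IsClosedImmersion.lift_fac, IsOpenImmersion.lift_fac]), ?_⟩
    rw [pullback.lift_fst_assoc, IsClosedImmersion.lift_fac]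

end Groth.Agent.FittStratum
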